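import Groth.Agent.HilbSam.Serre
import Mathlib

/-! Growth of the Hilbert–Samuel function versus the dimension of the support. -/

set_option autoImplicit false

namespace Groth.Agent.HilbSam

universe u

/-- Growth at most like `n ^ k`. -/
def Grow (f : ℕ → ℕ) (k : ℕ) : Prop := ∃ C : ℕ, ∀ n, f n ≤ C * (n + 1) ^ k

variable {A : Type u} [CommRing A]

theorem qlen_top {M : Type u} [AddCommGroup M] [Module A M] (C : Submodule A M) :
    qlen ⊤ C = Module.length A (M ⧸ C) :=
  (Submodule.Quotient.equiv (C.comap (⊤ : Submodule A M).subtype) C Submodule.topEquiv (by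
    ext z; simp [Submodule.mem_map])).length_eq

variable {M : Type u} [AddCommGroup M] [Module A M]

/-- Length modulo `I^n` after dividing by `x`. -/
theorem length_add_eq (x : A) (J : Submodule A M) :
    Module.length A (M ⧸ J) = Module.length A (M ⧸ J.comap (LinearMap.lsmul A M x)) +
      Module.length A (M ⧸ ((⊤ : Submodule A M).map (LinearMap.lsmul A M x) ⊔ J)) := by
  rw [← qlen_top, ← qlen_top, ← qlen_top,
    qlen_chain (le_sup_right : J ≤ (⊤ : Submodule A M).map (LinearMap.lsmul A M x) ⊔ J) le_top, qlen_map,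
    top_inf_eq]

section Semilocal

variable [IsNoetherianRing A] [Module.Finite A M] (I : Ideal A) [IsArtinianRing (A ⧸ I)]

omit [IsNoetherianRing A] [IsArtinianRing (A ⧸ I)] [Module.Finite A M] in
theorem length_quotient_le_of_surjective {M' : Type u} [AddCommGroup M'] [Module A M'] (g : M →ₗ[A] M')
    (hg : Function.Surjective g) (n : ℕ) :
    Module.length A (M' ⧸ (I ^ n • ⊤ : Submodule A M')) ≤ Module.length A (M ⧸ (I ^ n • ⊤ : Submodule A M)) := by
  have hle : (I ^ n • ⊤ : Submodule A M) ≤ LinearMap.ker ((Submodule.mkQ (I ^ n • ⊤ : Submodule A M')) ∘ₗ g) := by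
    refine Submodule.smul_le.2 fun a ha m _ => ?_
    rw [LinearMap.mem_ker, LinearMap.comp_apply, Submodule.mkQ_apply, Submodule.Quotient.mk_eq_zero, map_smul]
    exact Submodule.smul_mem_smul ha trivial
  refine Module.length_le_of_surjective (Submodule.liftQ _ _ hle) fun z => ?_
  obtain ⟨z, rfl⟩ := Submodule.Quotient.mk_surjective _ z
  obtain ⟨m, rfl⟩ := hg z
  exact ⟨Submodule.Quotient.mk m, rfl⟩

theorem coe_hs (n : ℕ) :
    (hs M I n : ℕ∞) = Module.length A (M ⧸ (I ^ n • ⊤ : Submodule A M)) :=
  ENat.natCast_toNat (length_quotient_ne_top I n)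

theorem hs_zero : hs M I 0 = 0 := by
  have h : Module.length A (M ⧸ (I ^ 0 • ⊤ : Submodule A M)) = 0 := by
    rw [Module.length_eq_zero_iff, Submodule.Quotient.subsingleton_iff]
    simp
  simp [hs, h]

theorem hs_mono : Monotone (hs M I) := monotone_nat_of_le_succ fun n => by
  rw [← Nat.cast_le (α := ℕ∞), coe_hs, coe_hs, length_quotient_succ]
  exact le_add_self

/-- Few parameters give slow growth. -/
theorem grow_of_isFiniteLength : ∀ (k : ℕ) (M : Type u) [AddCommGroup M] [Module A M] [Module.Finite A M]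
    (x : Fin k → A), (∀ i, x i ∈ I) → IsFiniteLength A (M ⧸ (Ideal.span (Set.range x) • ⊤ : Submodule A M)) →
    Grow (hs M I) k := by
  intro k
  induction k with
  | zero =>
    intro M _ _ _ x _ hfin
    refine ⟨(Module.length A (M ⧸ (Ideal.span (Set.range x) • ⊤ : Submodule A M))).toNat, fun n => ?_⟩
    rw [pow_zero, mul_one, ← Nat.cast_le (α := ℕ∞), ENat.natCast_toNat (Module.length_ne_top_iff.2 hfin),
      coe_hs]
    have hbot : (Ideal.span (Set.range x) • ⊤ : Submodule A M) = ⊥ := by
      rw [Set.range_eq_empty x, Ideal.span_empty, Submodule.bot_smul]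
    refine Module.length_le_of_surjective
      (Submodule.mapQ _ _ LinearMap.id (by rw [hbot]; exact bot_le)) fun z => ?_
    obtain ⟨z, rfl⟩ := Submodule.Quotient.mk_surjective _ z
    exact ⟨Submodule.Quotient.mk z, rfl⟩
  | succ k ih =>
    intro M _ _ _ x hx hfin
    let φ : M →ₗ[A] M := LinearMap.lsmul A M (x 0)
    let P : Submodule A M := (⊤ : Submodule A M).map φ
    have hfin' : IsFiniteLength A ((M ⧸ P) ⧸ (Ideal.span (Set.range (Fin.tail x)) • ⊤ : Submodule A (M ⧸ P))) := by
      let g := (Submodule.mkQ (Ideal.span (Set.range (Fin.tail x)) • ⊤ : Submodule A (M ⧸ P))) ∘ₗ P.mkQ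
      have hg : (Ideal.span (Set.range x) • ⊤ : Submodule A M) ≤ LinearMap.ker g := by
        refine Submodule.smul_le.2 fun a ha m _ => ?_
        have hle : Ideal.span (Set.range x) ≤
            ((LinearMap.ker g).comap (LinearMap.toSpanSingleton A M m)) := by
          refine Ideal.span_le.2 ?_
          rintro _ ⟨i, rfl⟩
          show g (x i • m) = 0
          cases i using Fin.cases with
          | zero =>
            rw [LinearMap.comp_apply, Submodule.mkQ_apply P, show (Submodule.Quotient.mk (x 0 • m) : M ⧸ P) = 0 from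
              (Submodule.Quotient.mk_eq_zero P).2 ⟨m, trivial, rfl⟩, map_zero]
          | succ j =>
            rw [LinearMap.comp_apply, map_smul, Submodule.mkQ_apply, Submodule.Quotient.mk_eq_zero]
            exact Submodule.smul_mem_smul (Ideal.subset_span ⟨j, rfl⟩) trivial
        exact hle ha
      rw [← Module.length_ne_top_iff] at hfin ⊢
      refine ne_top_of_le_ne_top hfin (Module.length_le_of_surjective (Submodule.liftQ _ g hg) fun z => ?_)
      obtain ⟨z, rfl⟩ := Submodule.Quotient.mk_surjective _ z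
      obtain ⟨z, rfl⟩ := Submodule.Quotient.mk_surjective _ z
      exact ⟨Submodule.Quotient.mk z, rfl⟩
    obtain ⟨C, hC⟩ := ih (M ⧸ P) (Fin.tail x) (fun i => hx i.succ) hfin'
    have hstep : ∀ n, hs M I (n + 1) ≤ hs M I n + hs (M ⧸ P) I (n + 1) := fun n => by
      rw [← Nat.cast_le (α := ℕ∞), Nat.cast_add, coe_hs, coe_hs, coe_hs, length_add_eq (x 0)]
      refine add_le_add ?_ ?_
      · rw [← qlen_top, ← qlen_top, qlen_chain (C := (I ^ n • ⊤ : Submodule A M))
          (D := (I ^ (n + 1) • ⊤ : Submodule A M).comap φ) ?_ le_top]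
        · exact le_add_self
        · refine Submodule.smul_le.2 fun a ha m _ => ?_
          show x 0 • a • m ∈ (I ^ (n + 1) • ⊤ : Submodule A M)
          rw [smul_smul, pow_succ']
          exact Submodule.smul_mem_smul (Ideal.mul_mem_mul (hx 0) ha) trivial
      · have hle : (I ^ (n + 1) • ⊤ : Submodule A (M ⧸ P)) ≤
            LinearMap.ker (Submodule.liftQ P (Submodule.mkQ (P ⊔ I ^ (n + 1) • ⊤))
              (by rw [Submodule.ker_mkQ]; exact le_sup_left)) := by
          refine Submodule.smul_le.2 fun a ha m _ => ?_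
          obtain ⟨m, rfl⟩ := Submodule.Quotient.mk_surjective _ m
          rw [LinearMap.mem_ker, ← Submodule.Quotient.mk_smul, Submodule.liftQ_apply, Submodule.mkQ_apply,
            Submodule.Quotient.mk_eq_zero]
          exact Submodule.mem_sup_right (Submodule.smul_mem_smul ha trivial)
        refine Module.length_le_of_surjective (Submodule.liftQ _ _ hle) fun z => ?_
        obtain ⟨z, rfl⟩ := Submodule.Quotient.mk_surjective _ z
        exact ⟨Submodule.Quotient.mk (Submodule.Quotient.mk z), rfl⟩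
    refine ⟨C, fun n => ?_⟩
    have htel : ∀ n, hs M I n ≤ n * C * (n + 1) ^ k := by
      intro n
      induction n with
      | zero => simp [hs_zero]
      | succ n ihn =>
        refine (hstep n).trans ((add_le_add ihn (hC (n + 1))).trans ?_)
        rw [add_mul, add_mul, one_mul]
        gcongr
        omega
    refine (htel n).trans ?_
    calc n * C * (n + 1) ^ k ≤ (n + 1) * C * (n + 1) ^ k := by gcongr; omega
      _ = C * (n + 1) ^ (k + 1) := by ring

omit [Module.Finite A M] in
theorem isMaximal_of_le {p : Ideal A} [p.IsPrime] (h : I ≤ p) : p.IsMaximal := by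
  haveI : (p.map (Ideal.Quotient.mk I)).IsPrime :=
    Ideal.map_isPrime_of_surjective Ideal.Quotient.mk_surjective (by rwa [Ideal.mk_ker])
  haveI : (p.map (Ideal.Quotient.mk I)).IsMaximal := IsArtinianRing.isMaximal_of_isPrime _
  have hc : (p.map (Ideal.Quotient.mk I)).comap (Ideal.Quotient.mk I) = p := by
    rw [Ideal.comap_map_of_surjective _ Ideal.Quotient.mk_surjective, ← RingHom.ker_eq_comap_bot,
      Ideal.mk_ker, sup_eq_left.2 h]
  rw [← hc]
  exact Ideal.comap_isMaximal_of_surjective _ Ideal.Quotient.mk_surjective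

variable (hI : I ≤ Ideal.jacobson ⊥)

include hI in
/-- Slow growth bounds the dimension. -/
theorem supportDim_le_of_grow : ∀ (k : ℕ) (M : Type u) [AddCommGroup M] [Module A M] [Module.Finite A M],
    Grow (hs M I) k → Module.supportDim A M ≤ k := by
  classical
  intro k
  induction k with
  | zero =>
    intro M _ _ _ hgrow
    obtain ⟨C, hC⟩ := hgrow
    obtain ⟨n, hn⟩ : ∃ n, hs M I (n + 1) = hs M I n := by
      by_contra h
      push Not at h
      have hlt : ∀ n, n ≤ hs M I n := by
        intro n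
        induction n with
        | zero => simp
        | succ n ih =>
          have := lt_of_le_of_ne (hs_mono (M := M) I n.le_succ : hs M I n ≤ hs M I (n + 1)) (h n).symm
          omega
      have := (hlt (C + 1)).trans (hC (C + 1))
      simp at this
    have h1 := length_quotient_succ (M := M) I n
    rw [← coe_hs, ← coe_hs, hn] at h1
    have hzero : qlen (I ^ n • ⊤ : Submodule A M) (I ^ (n + 1) • ⊤) = 0 := by
      have hne := qlen_ne_top (M := M) I (B := I ^ n • ⊤) (C := I ^ (n + 1) • ⊤) (by rw [← mul_smul, ← pow_succ'])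
      obtain ⟨q, hq⟩ := ENat.ne_top_iff_exists.1 hne
      rw [← hq] at h1 ⊢
      have : hs M I n = q + hs M I n := by exact_mod_cast h1
      exact_mod_cast (show q = 0 by omega)
    have hle : (I ^ n • ⊤ : Submodule A M) ≤ I • (I ^ n • ⊤) := by
      rw [← mul_smul, ← pow_succ']
      rw [qlen, Module.length_eq_zero_iff, Submodule.Quotient.subsingleton_iff, eq_top_iff] at hzero
      intro z hz
      exact hzero (show (⟨z, hz⟩ : (I ^ n • ⊤ : Submodule A M)) ∈ ⊤ from trivial)
    have hbot := Submodule.eq_bot_of_le_smul_of_le_jacobson_bot I (I ^ n • ⊤ : Submodule A M)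
      (IsNoetherian.noetherian _) hle hI
    refine iSup_le fun l => ?_
    rcases Nat.eq_zero_or_pos l.length with h0 | hpos
    · simp [h0]
    exfalso
    let i0 : Fin (l.length + 1) := ⟨0, by omega⟩
    let i1 : Fin (l.length + 1) := ⟨1, by omega⟩
    have hlt : (l i0).1.asIdeal < (l i1).1.asIdeal := l.strictMono (show i0 < i1 from Nat.zero_lt_one)
    have hann : I ^ n ≤ (l i0).1.asIdeal := fun a ha =>
      Module.mem_support_iff_of_finite.1 (l i0).2 (Module.mem_annihilator.2 fun m => by
        have : a • m ∈ (I ^ n • ⊤ : Submodule A M) := Submodule.smul_mem_smul ha trivial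
        rwa [hbot, Submodule.mem_bot] at this)
    haveI := isMaximal_of_le I (p := (l i0).1.asIdeal) ((l i0).1.2.le_of_pow_le hann)
    exact (l i1).1.2.ne_top ((‹(l i0).1.asIdeal.IsMaximal›).1.2 _ hlt)
  | succ k ih =>
    intro M _ _ _ hgrow
    refine iSup_le fun l => ?_
    rcases Nat.eq_zero_or_pos l.length with h0 | hpos
    · show (l.length : WithBot ℕ∞) ≤ _
      rw [h0]
      exact_mod_cast Nat.zero_le (k + 1)
    let i1 : Fin (l.length + 1) := ⟨1, by omega⟩
    let p := (l 0).1.asIdeal
    have hlt : p < (l i1).1.asIdeal := l.strictMono (show (0 : Fin (l.length + 1)) < i1 from Nat.zero_lt_one)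
    have hp : Module.annihilator A M ≤ p := Module.mem_support_iff_of_finite.1 (l 0).2
    let T : Submodule A M :=
      { carrier := {m | ∃ s ∉ p, s • m ∈ (p • ⊤ : Submodule A M)}
        zero_mem' := ⟨1, (l 0).1.2.one_notMem, by simp⟩
        add_mem' := by
          rintro a b ⟨s, hs, ha⟩ ⟨t, ht, hb⟩
          refine ⟨s * t, (l 0).1.2.mul_notMem hs ht, ?_⟩
          rw [smul_add, mul_comm s t, mul_smul, mul_comm t s, mul_smul]
          exact add_mem (Submodule.smul_mem _ _ ha) (Submodule.smul_mem _ _ hb)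
        smul_mem' := by
          rintro c a ⟨s, hs, ha⟩
          exact ⟨s, hs, by rw [smul_comm]; exact Submodule.smul_mem _ _ ha⟩ }
    have hannT : Module.annihilator A (M ⧸ T) ≤ p := by
      intro a ha
      by_contra hap
      have hallT : ∀ m : M, m ∈ T := fun m => by
        have h1 := Module.mem_annihilator.1 ha (Submodule.Quotient.mk m)
        rw [← Submodule.Quotient.mk_smul, Submodule.Quotient.mk_eq_zero] at h1
        obtain ⟨s, hs, hsm⟩ := h1
        exact ⟨s * a, (l 0).1.2.mul_notMem hs hap, by rwa [mul_smul]⟩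
      choose s hs hsm using hallT
      obtain ⟨G, hG⟩ := Module.Finite.fg_top (R := A) (M := M)
      let σ := ∏ g ∈ G, s g
      have hσ : σ ∉ p := fun h => by
        obtain ⟨g, -, hg⟩ := (l 0).1.2.prod_mem_iff.1 h
        exact hs g hg
      have hrange : LinearMap.range (LinearMap.lsmul A M σ) ≤ (p • ⊤ : Submodule A M) := by
        rw [LinearMap.range_eq_map]
        conv_lhs => rw [← hG]
        rw [Submodule.map_span_le]
        intro g hg
        show σ • g ∈ _
        obtain ⟨c, hc⟩ := Finset.dvd_prod_of_mem s hg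
        rw [show σ = c * s g from hc.trans (mul_comm _ _), mul_smul]
        exact Submodule.smul_mem _ _ (hsm g)
      obtain ⟨f, hf, hfdeg, hcoeff, hzero⟩ :=
        LinearMap.exists_monic_and_natDegree_eq_and_coeff_mem_pow_and_aeval_eq_zero A (LinearMap.lsmul A M σ) p hrange
      have heval : f.eval σ ∈ Module.annihilator A M := Module.mem_annihilator.2 fun m => by
        have h2 : Polynomial.aeval (LinearMap.lsmul A M σ) f = LinearMap.lsmul A M (f.eval σ) := by
          have e : LinearMap.lsmul A M σ = algebraMap A (Module.End A M) σ := rfl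
          rw [e, Polynomial.aeval_algebraMap_apply_eq_algebraMap_eval]
          rfl
        have h3 := LinearMap.congr_fun (h2.symm.trans hzero) m
        exact h3
      apply hσ
      refine (l 0).1.2.mem_of_pow_mem f.natDegree ?_
      have h4 : f.eval σ - σ ^ f.natDegree ∈ p := by
        rw [Polynomial.eval_eq_sum_range, Finset.sum_range_succ, hf.coeff_natDegree, one_mul,
          add_sub_cancel_right]
        refine Ideal.sum_mem _ fun i hi => Ideal.mul_mem_right _ _ ?_
        rw [Finset.mem_range] at hi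
        exact Ideal.pow_le_self (by omega) (hcoeff i)
      have h5 := sub_mem (hp heval) h4
      rwa [sub_sub_cancel] at h5
    obtain ⟨b, hbI, hbp⟩ : ∃ b ∈ I, b ∉ p := by
      by_contra hne
      push Not at hne
      haveI := isMaximal_of_le I (p := p) hne
      exact (l i1).1.2.ne_top ((‹p.IsMaximal›).1.2 _ hlt)
    obtain ⟨a, ha1, hap⟩ := SetLike.exists_of_lt hlt
    let x := a * b
    have hxp : x ∉ p := (l 0).1.2.mul_notMem hap hbp
    let φ : (M ⧸ T) →ₗ[A] M ⧸ T := LinearMap.lsmul A _ x
    have hinj : Function.Injective φ := by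
      rw [injective_iff_map_eq_zero]
      intro z hz
      obtain ⟨z, rfl⟩ := Submodule.Quotient.mk_surjective _ z
      rw [LinearMap.lsmul_apply, ← Submodule.Quotient.mk_smul, Submodule.Quotient.mk_eq_zero] at hz
      obtain ⟨s, hs, hsz⟩ := hz
      exact (Submodule.Quotient.mk_eq_zero _).2
        ⟨s * x, (l 0).1.2.mul_notMem hs hxp, by rwa [mul_smul]⟩
    -- growth of the quotient by `x`
    let P : Submodule A (M ⧸ T) := (⊤ : Submodule A (M ⧸ T)).map φ
    obtain ⟨C, hC⟩ := hgrow
    have hN : ∀ n, hs (M ⧸ T) I n ≤ C * (n + 1) ^ (k + 1) := fun n => by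
      refine le_trans ?_ (hC n)
      rw [← Nat.cast_le (α := ℕ∞), coe_hs, coe_hs]
      exact length_quotient_le_of_surjective I _ (Submodule.mkQ_surjective T) n
    obtain ⟨c, hc⟩ := I.exists_pow_inf_eq_pow_smul P
    have hdiff : ∀ n, hs ((M ⧸ T) ⧸ P) I (n + c) + hs (M ⧸ T) I n ≤ hs (M ⧸ T) I (n + c) := fun n => by
      rw [← Nat.cast_le (α := ℕ∞), Nat.cast_add, coe_hs, coe_hs, coe_hs,
        length_add_eq (M := M ⧸ T) x (I ^ (n + c) • ⊤), add_comm]
      refine add_le_add ?_ ?_
      · rw [← qlen_top, ← qlen_top, qlen_chain (C := (I ^ (n + c) • ⊤ : Submodule A (M ⧸ T)).comap φ)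
          (D := (I ^ n • ⊤ : Submodule A (M ⧸ T))) ?_ le_top]
        · exact le_add_self
        · intro z hz
          have h1 : φ z ∈ (I ^ (n + c) • ⊤ : Submodule A (M ⧸ T)) ⊓ P := ⟨hz, z, trivial, rfl⟩
          rw [hc (n + c) (by omega), Nat.add_sub_cancel] at h1
          have h2 : φ z ∈ (I ^ n • ⊤ : Submodule A (M ⧸ T)).map φ := by
            rw [Submodule.map_smul'']
            exact Submodule.smul_mono le_rfl inf_le_right h1
          obtain ⟨z', hz', hzz⟩ := h2
          rwa [← hinj hzz]
      · let g := (Submodule.mkQ (I ^ (n + c) • ⊤ : Submodule A ((M ⧸ T) ⧸ P))) ∘ₗ P.mkQ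
        have hg : P ⊔ I ^ (n + c) • ⊤ ≤ LinearMap.ker g := by
          refine sup_le (fun z hz => ?_) (Submodule.smul_le.2 fun a ha m _ => ?_)
          · rw [LinearMap.mem_ker, LinearMap.comp_apply, Submodule.mkQ_apply P,
              (Submodule.Quotient.mk_eq_zero _).2 hz, map_zero]
          · rw [LinearMap.mem_ker, LinearMap.comp_apply, map_smul, Submodule.mkQ_apply, Submodule.Quotient.mk_eq_zero]
            exact Submodule.smul_mem_smul ha trivial
        refine Module.length_le_of_surjective (Submodule.liftQ _ g hg) fun z => ?_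
        obtain ⟨z, rfl⟩ := Submodule.Quotient.mk_surjective _ z
        obtain ⟨z, rfl⟩ := Submodule.Quotient.mk_surjective _ z
        exact ⟨Submodule.Quotient.mk z, rfl⟩
    have hsum : ∀ n m, m * hs ((M ⧸ T) ⧸ P) I n + ∑ i ∈ Finset.range c, hs (M ⧸ T) I (n + i) ≤
        ∑ i ∈ Finset.range c, hs (M ⧸ T) I (n + m + i) := by
      intro n m
      induction m with
      | zero => simp
      | succ m ihm =>
        have h1 := hdiff (n + m)
        have h2 : hs ((M ⧸ T) ⧸ P) I n ≤ hs ((M ⧸ T) ⧸ P) I (n + m + c) := hs_mono I (by omega)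
        have h3 : ∑ i ∈ Finset.range c, hs (M ⧸ T) I (n + (m + 1) + i) + hs (M ⧸ T) I (n + m) =
            ∑ i ∈ Finset.range c, hs (M ⧸ T) I (n + m + i) + hs (M ⧸ T) I (n + m + c) := by
          rw [← Finset.sum_range_succ (fun i => hs (M ⧸ T) I (n + m + i)) c,
            Finset.sum_range_succ' (fun i => hs (M ⧸ T) I (n + m + i)) c]
          simp only [add_zero]
          congr 1
          exact Finset.sum_congr rfl fun i _ => by congr 1; omega
        rw [add_mul, one_mul]
        omega
    have hgrow' : Grow (hs ((M ⧸ T) ⧸ P) I) k := by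
      refine ⟨c * C * (c + 3) ^ (k + 1), fun n => ?_⟩
      rcases Nat.eq_zero_or_pos n with rfl | hn
      · simp [hs_zero]
      have h1 := le_of_add_le_left (hsum n n)
      have h2 : ∑ i ∈ Finset.range c, hs (M ⧸ T) I (n + n + i) ≤ c * (C * ((c + 3) * n) ^ (k + 1)) := by
        refine (Finset.sum_le_card_nsmul _ _ (C * ((c + 3) * n) ^ (k + 1)) fun i hi => ?_).trans (by simp)
        refine (hN _).trans ?_
        rw [Finset.mem_range] at hi
        gcongr
        nlinarith
      have h3 : n * hs ((M ⧸ T) ⧸ P) I n ≤ n * (c * C * (c + 3) ^ (k + 1) * n ^ k) := by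
        refine (h1.trans h2).trans (le_of_eq ?_)
        rw [mul_pow, pow_succ n k]
        ring
      refine (Nat.le_of_mul_le_mul_left h3 hn).trans ?_
      gcongr
      omega
    have hd := ih ((M ⧸ T) ⧸ P) hgrow'
    -- the shorter chain
    have hmem : ∀ i : Fin l.length, (l i.succ).1 ∈ Module.support A ((M ⧸ T) ⧸ P) := fun i => by
      rw [Module.mem_support_iff_of_finite]
      have hP : P = Ideal.span {x} • ⊤ := by
        rw [Submodule.ideal_span_singleton_smul]; rfl
      have hle1 : (l i1).1.asIdeal ≤ (l i.succ).1.asIdeal := l.monotone (Fin.mk_le_of_le_val (by simp))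
      have hsupp : (l i.succ).1 ∈ Module.support A ((M ⧸ T) ⧸ (Ideal.span {x} • ⊤ : Submodule A (M ⧸ T))) := by
        rw [Module.support_quotient]
        refine ⟨Module.mem_support_iff_of_finite.2 ((hannT.trans hlt.le).trans hle1), ?_⟩
        rw [PrimeSpectrum.mem_zeroLocus, SetLike.coe_subset_coe, Ideal.span_singleton_le_iff_mem]
        exact hle1 (Ideal.mul_mem_right b _ ha1)
      rw [← hP] at hsupp
      exact Module.mem_support_iff_of_finite.1 hsupp
    let l' : LTSeries (Module.support A ((M ⧸ T) ⧸ P)) :=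
      { length := l.length - 1
        toFun := fun i => ⟨(l (⟨i.1, by omega⟩ : Fin l.length).succ).1, hmem _⟩
        step := fun i => l.strictMono (by simp [Fin.lt_def]) }
    have h1 : ((l.length - 1 : ℕ) : WithBot ℕ∞) ≤ k := (le_iSup (fun s : LTSeries _ => (s.length : WithBot ℕ∞)) l').trans hd
    have h2 : l.length - 1 ≤ k := by exact_mod_cast h1
    show (l.length : WithBot ℕ∞) ≤ _
    exact_mod_cast (show l.length ≤ k + 1 by omega)

include hI in
/-- Systems of parameters exist. -/
theorem exists_parameters : ∀ (d : ℕ) (M : Type u) [AddCommGroup M] [Module A M] [Module.Finite A M],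
    Module.supportDim A M ≤ d → ∃ x : Fin d → A, (∀ i, x i ∈ I) ∧
      IsFiniteLength A (M ⧸ (Ideal.span (Set.range x) • ⊤ : Submodule A M)) := by
  classical
  intro d
  induction d with
  | zero =>
    intro M _ _ _ hM
    refine ⟨Fin.elim0, fun i => i.elim0, ?_⟩
    rw [← Module.length_ne_top_iff]
    have hrad : I ≤ (Module.annihilator A M).radical := by
      rw [Ideal.radical_eq_sInf]
      refine le_sInf fun J hJ => ?_
      haveI := hJ.2
      by_contra hIJ
      obtain ⟨m, hm, hJm⟩ := Ideal.exists_le_maximal J hJ.2.ne_top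
      have hlt : J < m := lt_of_le_of_ne hJm fun e => hIJ (e ▸ hI.trans
        (sInf_le ⟨bot_le, hm⟩ : Ideal.jacobson (⊥ : Ideal A) ≤ m))
      let a0 : Module.support A M := ⟨⟨J, hJ.2⟩, Module.mem_support_iff_of_finite.2 hJ.1⟩
      let a1 : Module.support A M := ⟨⟨m, hm.isPrime⟩, Module.mem_support_iff_of_finite.2 (hJ.1.trans hJm)⟩
      let s : LTSeries (Module.support A M) := (RelSeries.singleton _ a1).cons a0 hlt
      have := (le_iSup (fun s : LTSeries _ => (s.length : WithBot ℕ∞)) s).trans hM
      simp [s] at this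
      exact absurd this (by norm_num)
    obtain ⟨n, hn⟩ := Ideal.exists_pow_le_of_le_radical_of_fg hrad (IsNoetherian.noetherian _)
    refine ne_top_of_le_ne_top (length_quotient_ne_top (M := M) I n)
      (Module.length_le_of_surjective (Submodule.mapQ _ _ LinearMap.id ?_) fun z => ?_)
    · refine Submodule.smul_le.2 fun a ha m _ => ?_
      rw [Submodule.mem_comap, LinearMap.id_apply, Module.mem_annihilator.1 (hn ha) m]
      exact zero_mem _
    · obtain ⟨z, rfl⟩ := Submodule.Quotient.mk_surjective _ z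
      exact ⟨Submodule.Quotient.mk z, rfl⟩
  | succ d ih =>
    intro M _ _ _ hM
    let mins := (Module.annihilator A M).minimalPrimes
    have hfin : mins.Finite := (Module.annihilator A M).finite_minimalPrimes_of_isNoetherianRing A
    let bad := hfin.toFinset.filter fun q => ¬ q.IsMaximal
    obtain ⟨x, hxI, hx⟩ : ∃ x ∈ I, ∀ q ∈ bad, x ∉ q := by
      by_contra hne
      push Not at hne
      have hsub : (I : Set A) ⊆ ⋃ q ∈ (bad : Set (Ideal A)), (q : Set A) := fun x hx => by
        obtain ⟨q, hq, hxq⟩ := hne x hx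
        exact Set.mem_biUnion hq hxq
      obtain ⟨q, hq, hIq⟩ := (Ideal.subset_union_prime ⊥ ⊥ (fun q hq _ _ =>
        ((hfin.mem_toFinset.1 (Finset.mem_filter.1 hq).1).1.1))).1 hsub
      haveI : q.IsPrime := (hfin.mem_toFinset.1 (Finset.mem_filter.1 hq).1).1.1
      exact (Finset.mem_filter.1 hq).2 (isMaximal_of_le I hIq)
    let P : Submodule A M := Ideal.span {x} • ⊤
    have hdim : Module.supportDim A (M ⧸ P) ≤ d := by
      refine iSup_le fun l => ?_
      have hhead : l.head.1 ∈ Module.support A (M ⧸ (Ideal.span {x} • ⊤ : Submodule A M)) := l.head.2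
      obtain ⟨hM', hxl⟩ := (Set.ext_iff.1 (Module.support_quotient _) _).1 hhead
      rw [PrimeSpectrum.mem_zeroLocus, SetLike.coe_subset_coe, Ideal.span_singleton_le_iff_mem] at hxl
      haveI := l.head.1.2
      obtain ⟨q, hq, hql⟩ := Ideal.exists_minimalPrimes_le (Module.mem_support_iff_of_finite.1 hM')
      haveI : q.IsPrime := hq.1.1
      have hmemM : ∀ i, (l i).1 ∈ Module.support A M := fun i => by
        have : (l i).1 ∈ Module.support A (M ⧸ (Ideal.span {x} • ⊤ : Submodule A M)) := (l i).2
        exact ((Set.ext_iff.1 (Module.support_quotient _) _).1 this).1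
      rcases Nat.eq_zero_or_pos l.length with h0 | hpos
      · simp [h0]
      have hlt : q < l.head.1.asIdeal := by
        refine lt_of_le_of_ne hql fun e => ?_
        have hqmax : ¬ q.IsMaximal := fun hmax => by
          let i1 : Fin (l.length + 1) := ⟨1, by omega⟩
          have h01 : l.head.1.asIdeal < (l i1).1.asIdeal :=
            l.strictMono (show (0 : Fin (l.length + 1)) < i1 from Nat.zero_lt_one)
          exact (l i1).1.2.ne_top (hmax.1.2 _ (e ▸ h01))
        exact hx q (Finset.mem_filter.2 ⟨hfin.mem_toFinset.2 hq, hqmax⟩) (e ▸ hxl)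
      let lM : LTSeries (Module.support A M) :=
        { length := l.length
          toFun := fun i => ⟨(l i).1, hmemM i⟩
          step := fun i => l.step i }
      let a0 : Module.support A M := ⟨⟨q, hq.1.1⟩, Module.mem_support_iff_of_finite.2 hq.1.2⟩
      let l2 : LTSeries (Module.support A M) := lM.cons a0 hlt
      have h1 := (le_iSup (fun s : LTSeries _ => (s.length : WithBot ℕ∞)) l2).trans hM
      have h2 : l2.length = l.length + 1 := by simp [l2, lM]
      rw [h2] at h1
      have h3 : l.length + 1 ≤ d + 1 := by exact_mod_cast h1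
      show (l.length : WithBot ℕ∞) ≤ _
      exact_mod_cast (show l.length ≤ d by omega)
    obtain ⟨y, hy, hfl⟩ := ih (M ⧸ P) hdim
    refine ⟨Fin.cons x y, fun i => Fin.cases hxI hy i, ?_⟩
    let Q : Submodule A M := Ideal.span (Set.range (Fin.cons x y : Fin (d + 1) → A)) • ⊤
    have hPQ : P ≤ LinearMap.ker Q.mkQ := by
      rw [Submodule.ker_mkQ]
      exact Submodule.smul_mono_left (Ideal.span_mono (Set.singleton_subset_iff.2 ⟨0, rfl⟩))
    have hle : (Ideal.span (Set.range y) • ⊤ : Submodule A (M ⧸ P)) ≤ LinearMap.ker (P.liftQ Q.mkQ hPQ) := by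
      refine Submodule.smul_le.2 fun a ha m _ => ?_
      obtain ⟨m, rfl⟩ := Submodule.Quotient.mk_surjective _ m
      rw [LinearMap.mem_ker, ← Submodule.Quotient.mk_smul, Submodule.liftQ_apply, Submodule.mkQ_apply,
        Submodule.Quotient.mk_eq_zero]
      refine Submodule.smul_mem_smul (Ideal.span_mono ?_ ha) trivial
      rintro _ ⟨i, rfl⟩
      exact ⟨i.succ, by simp⟩
    rw [← Module.length_ne_top_iff] at hfl ⊢
    refine ne_top_of_le_ne_top hfl (Module.length_le_of_surjective (Submodule.liftQ _ _ hle) fun z => ?_)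
    obtain ⟨z, rfl⟩ := Submodule.Quotient.mk_surjective _ z
    exact ⟨Submodule.Quotient.mk (Submodule.Quotient.mk z), rfl⟩

end Semilocal

/-- Polynomials of small growth have small degree. -/
theorem natDegree_le_of_le {P : Polynomial ℚ} {C k : ℕ} {N : ℕ}
    (h : ∀ n, N ≤ n → 0 ≤ P.eval (n : ℚ) ∧ P.eval (n : ℚ) ≤ C * ((n : ℚ) + 1) ^ k) : P.natDegree ≤ k := by
  by_contra hlt
  push Not at hlt
  have hP0 : P ≠ 0 := fun h0 => by simp [h0] at hlt
  let Q : Polynomial ℚ := Polynomial.C (C : ℚ) * (Polynomial.X + 1) ^ k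
  have hQ : Q.natDegree ≤ k := by
    refine Polynomial.natDegree_mul_le.trans ?_
    rw [Polynomial.natDegree_C, zero_add]
    refine (Polynomial.natDegree_pow_le).trans ?_
    rw [show (Polynomial.X + 1 : Polynomial ℚ) = Polynomial.X + Polynomial.C 1 by simp, Polynomial.natDegree_X_add_C,
      mul_one]
  have hdeg : Q.degree < P.degree := by
    rw [Polynomial.degree_eq_natDegree hP0]
    exact Polynomial.degree_le_natDegree.trans_lt (by exact_mod_cast hQ.trans_lt hlt)
  have hT := (Polynomial.div_tendsto_zero_of_degree_lt Q P hdeg).comp (tendsto_natCast_atTop_atTop (R := ℚ))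
  have hev : ∀ᶠ n : ℕ in Filter.atTop, P.eval (n : ℚ) ≠ 0 := by
    have := Filter.Tendsto.eventually (tendsto_natCast_atTop_atTop (R := ℚ))
      ((Polynomial.eventually_no_roots P hP0).mono fun x hx => hx)
    exact this
  obtain ⟨n, hn1, hn2, hn3⟩ := (((hT.eventually (gt_mem_nhds zero_lt_one)).and
    (hev.and (Filter.eventually_ge_atTop N)))).exists
  simp only [Function.comp_apply, Q, Polynomial.eval_mul, Polynomial.eval_C, Polynomial.eval_pow,
    Polynomial.eval_add, Polynomial.eval_X, Polynomial.eval_one] at hn1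
  obtain ⟨h0, h1⟩ := h n hn3
  have hpos : 0 < P.eval (n : ℚ) := lt_of_le_of_ne h0 (Ne.symm hn2)
  rw [div_lt_one hpos] at hn1
  linarith

theorem eval_le_growth (P : Polynomial ℚ) (n : ℕ) :
    P.eval (n : ℚ) ≤ (⌈∑ i ∈ Finset.range (P.natDegree + 1), |P.coeff i|⌉₊ : ℚ) * ((n : ℚ) + 1) ^ P.natDegree := by
  rw [Polynomial.eval_eq_sum_range]
  refine le_trans ?_ (mul_le_mul_of_nonneg_right (Nat.le_ceil _) (by positivity))
  rw [Finset.sum_mul]
  refine Finset.sum_le_sum fun i hi => ?_
  rw [Finset.mem_range] at hi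
  refine (mul_le_mul_of_nonneg_right (le_abs_self _) (by positivity)).trans
    (mul_le_mul_of_nonneg_left ?_ (abs_nonneg _))
  calc (n : ℚ) ^ i ≤ ((n : ℚ) + 1) ^ i := by gcongr; linarith
    _ ≤ ((n : ℚ) + 1) ^ P.natDegree := pow_le_pow_right₀ (by linarith [n.cast_nonneg (α := ℚ)]) (by omega)

/-- Degree of the Hilbert–Samuel polynomial. -/
theorem exists_polynomial_natDegree_eq [IsNoetherianRing A] [Module.Finite A M] [Nontrivial M]
    (I : Ideal A) [IsArtinianRing (A ⧸ I)] (hI : I ≤ Ideal.jacobson ⊥) :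
    ∃ P : Polynomial ℚ, (∃ N : ℕ, ∀ n, N ≤ n → (hs M I n : ℚ) = P.eval (n : ℚ)) ∧
      (P.natDegree : WithBot ℕ∞) = Module.supportDim A M := by
  obtain ⟨P, N, hP⟩ := exists_polynomial_hs (M := M) I
  refine ⟨P, ⟨N, hP⟩, ?_⟩
  have hg : Grow (hs M I) P.natDegree := by
    obtain ⟨C, hC⟩ : ∃ C : ℕ, ∀ n : ℕ, P.eval (n : ℚ) ≤ (C : ℚ) * ((n : ℚ) + 1) ^ P.natDegree := ⟨_, eval_le_growth P⟩
    refine ⟨C + hs M I N, fun n => ?_⟩
    rcases le_or_gt N n with h | h
    · have h1 : (hs M I n : ℚ) ≤ ((C * (n + 1) ^ P.natDegree : ℕ) : ℚ) := by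
        rw [hP n h]; push_cast; exact hC n
      refine (Nat.cast_le.1 h1).trans ?_
      gcongr
      omega
    · calc hs M I n ≤ hs M I N := hs_mono I h.le
        _ = hs M I N * 1 := (mul_one _).symm
        _ ≤ (C + hs M I N) * (n + 1) ^ P.natDegree :=
          Nat.mul_le_mul (by omega) (Nat.one_le_pow _ _ (by omega))
  have hub := supportDim_le_of_grow I hI P.natDegree M hg
  obtain ⟨d, hd⟩ : ∃ d : ℕ, Module.supportDim A M = d := by
    have hne := Module.supportDim_ne_bot_of_nontrivial (R := A) (M := M)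
    obtain ⟨e, he⟩ := WithBot.ne_bot_iff_exists.1 hne
    rw [← he] at hub ⊢
    have he' : e ≤ (P.natDegree : ℕ∞) := by exact_mod_cast hub
    obtain ⟨d, rfl⟩ := WithTop.ne_top_iff_exists.1 (ne_top_of_le_ne_top (ENat.natCast_ne_top _) he')
    exact ⟨d, rfl⟩
  obtain ⟨x, hx, hfin⟩ := exists_parameters I hI d M hd.le
  obtain ⟨C, hC⟩ := grow_of_isFiniteLength I d M x hx hfin
  have hle : P.natDegree ≤ d := natDegree_le_of_le (C := C) (N := N) fun n hn => by
    rw [← hP n hn]
    exact ⟨Nat.cast_nonneg _, by exact_mod_cast hC n⟩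
  rw [hd] at hub ⊢
  have hge : d ≤ P.natDegree := by exact_mod_cast hub
  exact_mod_cast le_antisymm hle hge

/-- The semilocal radical has Artinian quotient. -/
theorem isArtinianRing_quotient_jacobson [IsNoetherianRing A] [Finite (MaximalSpectrum A)] :
    IsArtinianRing (A ⧸ Ring.jacobson A) := by
  rw [isArtinianRing_iff_isNoetherianRing_krullDimLE_zero]
  refine ⟨inferInstance, ?_⟩
  rw [Ring.krullDimLE_zero_iff]
  intro P hP
  let p := P.comap (Ideal.Quotient.mk (Ring.jacobson A))
  haveI : p.IsPrime := Ideal.IsPrime.comap _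
  have hle : Ring.jacobson A ≤ p := fun a ha => by
    show Ideal.Quotient.mk _ a ∈ P
    rw [Ideal.Quotient.eq_zero_iff_mem.2 ha]
    exact zero_mem _
  haveI := Fintype.ofFinite (MaximalSpectrum A)
  have heq : Ring.jacobson A = Finset.univ.inf fun m : MaximalSpectrum A => m.asIdeal := by
    rw [Ring.jacobson_eq_sInf_isMaximal, Finset.inf_eq_iInf]
    refine le_antisymm (le_iInf₂ fun m _ => sInf_le m.isMaximal) (le_sInf fun J hJ => ?_)
    exact iInf₂_le_of_le ⟨J, hJ⟩ (Finset.mem_univ _) le_rfl
  rw [heq] at hle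
  obtain ⟨m, -, hm⟩ := (Ideal.IsPrime.inf_le' ‹p.IsPrime›).1 hle
  have hpm : m.asIdeal = p := m.isMaximal.eq_of_le ‹p.IsPrime›.ne_top hm
  have hP2 : P = p.map (Ideal.Quotient.mk (Ring.jacobson A)) :=
    (Ideal.map_comap_of_surjective _ Ideal.Quotient.mk_surjective P).symm
  rw [hP2, ← hpm]
  exact (Ideal.map_eq_top_or_isMaximal_of_surjective _ Ideal.Quotient.mk_surjective m.isMaximal).resolve_left
    (by rw [hpm, ← hP2]; exact hP.ne_top)

end Groth.Agent.HilbSam
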