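import Mathlib

/-! Hilbert–Serre for stable filtrations: the Hilbert–Samuel function is eventually polynomial. -/

set_option autoImplicit false

open scoped fwdDiff

namespace Groth.Agent.HilbSam

universe u

/-- Eventually annihilated by the `d`-th iterated forward difference. -/
def EvPoly (f : ℕ → ℚ) (d : ℕ) : Prop := ∃ N : ℕ, ∀ n, N ≤ n → ((fwdDiff (1 : ℕ))^[d] f) n = 0

theorem EvPoly.mono {f : ℕ → ℚ} {d d' : ℕ} (h : EvPoly f d) (hd : d ≤ d') : EvPoly f d' := by
  induction hd with
  | refl => exact h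
  | step _ ih =>
    obtain ⟨N, hN⟩ := ih
    exact ⟨N, fun n hn => by
      rw [Function.iterate_succ_apply']
      simp [fwdDiff, hN n hn, hN (n + 1) (by omega)]⟩

theorem iterate_shift (f : ℕ → ℚ) : ∀ (d n : ℕ), ((fwdDiff (1 : ℕ))^[d] (fun m => f (m + 1))) n = ((fwdDiff (1 : ℕ))^[d] f) (n + 1) := by
  intro d
  induction d with
  | zero => intro n; rfl
  | succ d ih =>
    intro n
    rw [Function.iterate_succ_apply', Function.iterate_succ_apply']
    simp only [fwdDiff, ih]

theorem evPoly_of_diff {f g k : ℕ → ℚ} {d : ℕ} (hg : EvPoly g d) (hk : EvPoly k d)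
    (h : ∀ n, f (n + 1) - f n = g (n + 1) - k n) : EvPoly f (d + 1) := by
  obtain ⟨N, hN⟩ := hg
  obtain ⟨N', hN'⟩ := hk
  refine ⟨max N N', fun n hn => ?_⟩
  have h1 : fwdDiff (1 : ℕ) f = (fun m => g (m + 1)) + (-1 : ℚ) • k := by
    funext m
    simp [fwdDiff, h m]
    ring
  rw [Function.iterate_succ_apply, h1, fwdDiff_iter_add, fwdDiff_iter_const_smul, Pi.add_apply,
    Pi.smul_apply, iterate_shift, hN (n + 1) (by omega), hN' n (by omega)]
  simp

/-- An eventually polynomial function is given by a polynomial. -/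
theorem EvPoly.exists_polynomial {f : ℕ → ℚ} {d : ℕ} (h : EvPoly f d) :
    ∃ P : Polynomial ℚ, ∃ N : ℕ, ∀ n, N ≤ n → f n = P.eval (n : ℚ) := by
  obtain ⟨N, hN⟩ := h
  have hvan : ∀ k, d ≤ k → ((fwdDiff (1 : ℕ))^[k] f) N = 0 := fun k hk => by
    have hm : ∀ j n, N ≤ n → ((fwdDiff (1 : ℕ))^[d + j] f) n = 0 := by
      intro j
      induction j with
      | zero => exact hN
      | succ j ih =>
        intro n hn
        rw [← add_assoc, Function.iterate_succ_apply']
        simp [fwdDiff, ih n hn, ih (n + 1) (by omega)]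
    obtain ⟨j, rfl⟩ := Nat.exists_eq_add_of_le hk
    exact hm j N le_rfl
  let P : Polynomial ℚ := (∑ k ∈ Finset.range d,
    Polynomial.C (((fwdDiff (1 : ℕ))^[k] f) N / (k.factorial : ℚ)) * descPochhammer ℚ k).comp
      (Polynomial.X - Polynomial.C (N : ℚ))
  refine ⟨P, N, fun n hn => ?_⟩
  obtain ⟨m, rfl⟩ := Nat.exists_eq_add_of_le hn
  have h1 := shift_eq_sum_fwdDiff_iter 1 f m N
  rw [smul_eq_mul, mul_one] at h1
  rw [h1]
  simp only [P, Polynomial.eval_comp, Polynomial.eval_sub, Polynomial.eval_X, Polynomial.eval_C,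
    Nat.cast_add, add_sub_cancel_left, Polynomial.eval_finset_sum, Polynomial.eval_mul]
  have hterm : ∀ k, (m.choose k) • ((fwdDiff (1 : ℕ))^[k] f) N =
      ((fwdDiff (1 : ℕ))^[k] f) N / (k.factorial : ℚ) * (descPochhammer ℚ k).eval (m : ℚ) := fun k => by
    rw [nsmul_eq_mul, Nat.cast_choose_eq_descPochhammer_div]
    ring
  rw [← Finset.sum_congr rfl fun k _ => hterm k]
  rcases le_or_gt (m + 1) d with hmd | hmd
  · exact Finset.sum_subset (Finset.range_mono hmd) fun k _ hk => by
      rw [Finset.mem_range, not_lt] at hk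
      simp [Nat.choose_eq_zero_of_lt hk]
  · exact (Finset.sum_subset (Finset.range_mono hmd.le) fun k _ hk => by
      rw [Finset.mem_range, not_lt] at hk
      simp [hvan k hk]).symm

section Lengths

variable {A : Type u} [CommRing A] {M : Type u} [AddCommGroup M] [Module A M]

/-- Length of `B / (C ∩ B)`. -/
noncomputable def qlen (B C : Submodule A M) : ℕ∞ := Module.length A (B ⧸ C.comap B.subtype)

theorem qlen_self_le {B C : Submodule A M} (h : B ≤ C) : qlen B C = 0 := by
  unfold qlen
  rw [Module.length_eq_zero_iff]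
  rw [Submodule.Quotient.subsingleton_iff, eq_top_iff]
  exact fun b _ => h b.2

theorem qlen_chain {B C D : Submodule A M} (hCD : C ≤ D) (hDB : D ≤ B) :
    qlen B C = qlen D C + qlen B D := by
  let α : (D ⧸ C.comap D.subtype) →ₗ[A] B ⧸ C.comap B.subtype :=
    Submodule.mapQ _ _ (Submodule.inclusion hDB) fun x hx => hx
  let β : (B ⧸ C.comap B.subtype) →ₗ[A] B ⧸ D.comap B.subtype :=
    Submodule.mapQ _ _ LinearMap.id fun x hx => hCD hx
  refine Module.length_eq_add_of_exact α β ?_ ?_ ?_
  · rw [← LinearMap.ker_eq_bot, eq_bot_iff]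
    intro z hz
    obtain ⟨z, rfl⟩ := Submodule.Quotient.mk_surjective _ z
    rw [LinearMap.mem_ker, Submodule.mapQ_apply, Submodule.Quotient.mk_eq_zero] at hz
    exact (Submodule.Quotient.mk_eq_zero _).2 hz
  · intro z
    obtain ⟨z, rfl⟩ := Submodule.Quotient.mk_surjective _ z
    exact ⟨Submodule.Quotient.mk z, rfl⟩
  · intro z
    obtain ⟨z, rfl⟩ := Submodule.Quotient.mk_surjective _ z
    constructor
    · intro hz
      rw [Submodule.mapQ_apply, Submodule.Quotient.mk_eq_zero] at hz
      exact ⟨Submodule.Quotient.mk ⟨z, hz⟩, rfl⟩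
    · rintro ⟨w, hw⟩
      obtain ⟨w, rfl⟩ := Submodule.Quotient.mk_surjective _ w
      rw [Submodule.mapQ_apply, Submodule.Quotient.eq] at hw
      rw [Submodule.mapQ_apply, Submodule.Quotient.mk_eq_zero]
      have h1 : (w : M) - z ∈ D := hCD hw
      have h2 := sub_mem w.2 h1
      rwa [sub_sub_cancel] at h2

theorem qlen_map (f : M →ₗ[A] M) (B C : Submodule A M) :
    qlen (B.map f ⊔ C) C = qlen B (B ⊓ C.comap f) := by
  let D := B.map f ⊔ C
  let g : B →ₗ[A] D ⧸ C.comap D.subtype :=
    (Submodule.mkQ _).comp (LinearMap.codRestrict D (f ∘ₗ B.subtype)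
      fun b => Submodule.mem_sup_left ⟨b, b.2, rfl⟩)
  have hg : Function.Surjective g := fun z => by
    obtain ⟨⟨z, hz⟩, rfl⟩ := Submodule.Quotient.mk_surjective _ z
    obtain ⟨_, ⟨b, hb, rfl⟩, c, hc, rfl⟩ := Submodule.mem_sup.1 hz
    refine ⟨⟨b, hb⟩, (Submodule.Quotient.eq _).2 ?_⟩
    show f b - (f b + c) ∈ C
    rw [sub_add_cancel_left]
    exact neg_mem hc
  have hk : LinearMap.ker g = (B ⊓ C.comap f).comap B.subtype := by
    ext b
    rw [LinearMap.mem_ker]
    show Submodule.Quotient.mk _ = 0 ↔ _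
    rw [Submodule.Quotient.mk_eq_zero]
    exact ⟨fun h => ⟨b.2, h⟩, fun h => h.2⟩
  exact ((Submodule.quotEquivOfEq _ _ hk.symm).trans (g.quotKerEquivOfSurjective hg)).length_eq.symm

variable [IsNoetherianRing A] [Module.Finite A M]

theorem qlen_ne_top (I : Ideal A) [IsArtinianRing (A ⧸ I)] {B C : Submodule A M} (h : I • B ≤ C) :
    qlen B C ≠ ⊤ := by
  haveI : IsArtinian A (A ⧸ I) := isArtinian_of_surjective_algebraMap (Ideal.Quotient.mk_surjective (I := I))
  haveI : Module.Finite A B := Module.Finite.of_fg (IsNoetherian.noetherian _)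
  let Q := B ⧸ C.comap B.subtype
  have hI : I ≤ Module.annihilator A Q := fun a ha => Module.mem_annihilator.2 fun z => by
    obtain ⟨z, rfl⟩ := Submodule.Quotient.mk_surjective _ z
    rw [← Submodule.Quotient.mk_smul, Submodule.Quotient.mk_eq_zero]
    exact h (Submodule.smul_mem_smul ha z.2)
  obtain ⟨k, s, hs⟩ := Module.Finite.exists_fin' A Q
  let t : (Fin k → A ⧸ I) →ₗ[A] Q :=
    ∑ i, (I.liftQ (LinearMap.toSpanSingleton A Q (s (Pi.single i 1))) fun a ha => by
      rw [LinearMap.mem_ker, LinearMap.toSpanSingleton_apply]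
      exact Module.mem_annihilator.1 (hI ha) _) ∘ₗ LinearMap.proj i
  have ht : Function.Surjective t := fun q => by
    obtain ⟨v, rfl⟩ := hs q
    refine ⟨fun i => Ideal.Quotient.mk I (v i), ?_⟩
    simp only [t, LinearMap.sum_apply, LinearMap.comp_apply, LinearMap.proj_apply]
    show ∑ i, v i • s (Pi.single i 1) = s v
    conv_rhs => rw [pi_eq_sum_univ' v]
    simp only [map_sum, map_smul]
  haveI : IsArtinian A Q := isArtinian_of_surjective _ t ht
  exact Module.length_ne_top

/-- The numerical function of a pair of filtrations. -/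
noncomputable def hfun {I : Ideal A} (B C : I.Filtration M) (n : ℕ) : ℚ :=
  ((qlen (B.N n) (C.N n)).toNat : ℚ)

/-- Hilbert–Serre for pairs of stable filtrations. -/
theorem evPoly_hfun (I : Ideal A) [IsArtinianRing (A ⧸ I)] (G : Finset A) (hG : I = Ideal.span G) :
    ∀ (S : Finset A) (B C : I.Filtration M), S ⊆ G → B.Stable → C ≤ B →
      (∀ n, I • B.N n ≤ C.N n) →
      (∀ x ∈ G, x ∉ S → ∀ n, ∀ b ∈ B.N n, x • b ∈ C.N (n + 1)) → EvPoly (hfun B C) S.card := by
  classical
  intro S
  induction S using Finset.induction_on with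
  | empty =>
    intro B C _ hB hCB hIB hx
    obtain ⟨n₀, hn₀⟩ := hB
    refine ⟨n₀ + 1, fun n hn => ?_⟩
    obtain ⟨m, rfl⟩ : ∃ m, n = m + 1 := ⟨n - 1, by omega⟩
    show hfun B C (m + 1) = 0
    unfold hfun
    rw [qlen_self_le, ENat.toNat_zero, Nat.cast_zero]
    rw [← hn₀ m (by omega)]
    refine Submodule.smul_le.2 fun a ha b hb => ?_
    have hle : I ≤ ((C.N (m + 1)).comap (LinearMap.toSpanSingleton A M b)) :=
      hG.trans_le (Ideal.span_le.2 fun a ha => hx a ha (Finset.notMem_empty a) m b hb)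
    exact hle ha
  | insert x S hxS ih =>
    intro B C hSG hB hCB hIB hx
    rw [Finset.card_insert_of_notMem hxS]
    have hxI : x ∈ I := hG.ge (Ideal.subset_span (hSG (Finset.mem_insert_self x S)))
    let φ : M →ₗ[A] M := LinearMap.lsmul A M x
    let K : I.Filtration M :=
      { N := fun n => B.N n ⊓ (C.N (n + 1)).comap φ
        mono := fun n => le_inf (inf_le_left.trans (B.mono n))
          (inf_le_right.trans (Submodule.comap_mono (C.mono (n + 1))))
        smul_le := fun n => le_inf ((Submodule.smul_mono le_rfl inf_le_left).trans (B.smul_le n)) (by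
          rw [← Submodule.map_le_iff_le_comap, Submodule.map_smul'']
          refine (Submodule.smul_mono le_rfl ?_).trans (C.smul_le (n + 1))
          exact Submodule.map_le_iff_le_comap.2 inf_le_right) }
    let C' : I.Filtration M :=
      { N := fun n => match n with
          | 0 => C.N 0
          | m + 1 => (B.N m).map φ ⊔ C.N (m + 1)
        mono := fun n => by
          match n with
          | 0 =>
            refine sup_le ?_ (C.mono 0)
            rintro _ ⟨b, hb, rfl⟩
            exact hIB 0 (Submodule.smul_mem_smul hxI hb)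
          | m + 1 => exact sup_le_sup (Submodule.map_mono (B.mono m)) (C.mono (m + 1))
        smul_le := fun n => by
          match n with
          | 0 => exact (C.smul_le 0).trans le_sup_right
          | m + 1 =>
            rw [Submodule.smul_sup, ← Submodule.map_smul'']
            exact sup_le_sup (Submodule.map_mono (B.smul_le m)) (C.smul_le (m + 1)) }
    have hKB : K ≤ B := fun n => inf_le_left
    have hC'B : C' ≤ B := fun n => by
      match n with
      | 0 => exact hCB 0
      | m + 1 =>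
        refine sup_le ?_ (hCB (m + 1))
        rintro _ ⟨b, hb, rfl⟩
        exact B.smul_le m (Submodule.smul_mem_smul hxI hb)
    have hCK : C ≤ K := fun n => le_inf (hCB n) fun c hc => C.smul_le n (Submodule.smul_mem_smul hxI hc)
    have hCC' : C ≤ C' := fun n => by
      match n with
      | 0 => exact le_rfl
      | m + 1 => exact le_sup_right
    have hSG' : S ⊆ G := (Finset.subset_insert x S).trans hSG
    have h1 := ih B C' hSG' hB hC'B (fun n => (hIB n).trans (hCC' n)) fun y hy hyS n b hb => by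
      by_cases hyx : y = x
      · subst hyx; exact Submodule.mem_sup_left ⟨b, hb, rfl⟩
      · exact hCC' (n + 1) (hx y hy (by simp [hyx, hyS]) n b hb)
    have h2 := ih K C hSG' (hB.of_le hKB) hCK
      (fun n => (Submodule.smul_mono le_rfl inf_le_left).trans (hIB n)) fun y hy hyS n b hb => by
      by_cases hyx : y = x
      · subst hyx; exact hb.2
      · exact hx y hy (by simp [hyx, hyS]) n b hb.1
    refine evPoly_of_diff h1 h2 fun n => ?_
    have hf : ∀ (B' C'' : Submodule A M), I • B' ≤ C'' → ((qlen B' C'').toNat : ℕ∞) = qlen B' C'' :=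
      fun B' C'' h => ENat.natCast_toNat (qlen_ne_top I h)
    have e1 : qlen (B.N (n + 1)) (C.N (n + 1)) =
        qlen (B.N n) (K.N n) + qlen (B.N (n + 1)) (C'.N (n + 1)) := by
      rw [qlen_chain (hCC' (n + 1)) (hC'B (n + 1))]
      congr 1
      exact qlen_map φ (B.N n) (C.N (n + 1))
    have e2 : qlen (B.N n) (C.N n) = qlen (K.N n) (C.N n) + qlen (B.N n) (K.N n) :=
      qlen_chain (hCK n) (hKB n)
    rw [← hf _ _ (hIB (n + 1)), ← hf _ _ ((hIB n).trans (hCK n)),
      ← hf _ _ ((hIB (n + 1)).trans (hCC' (n + 1)))] at e1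
    rw [← hf _ _ (hIB n), ← hf _ _ ((Submodule.smul_mono le_rfl inf_le_left).trans (hIB n)),
      ← hf _ _ ((hIB n).trans (hCK n))] at e2
    simp only [hfun]
    have e1' : (qlen (B.N (n + 1)) (C.N (n + 1))).toNat =
        (qlen (B.N n) (K.N n)).toNat + (qlen (B.N (n + 1)) (C'.N (n + 1))).toNat := by exact_mod_cast e1
    have e2' : (qlen (B.N n) (C.N n)).toNat =
        (qlen (K.N n) (C.N n)).toNat + (qlen (B.N n) (K.N n)).toNat := by exact_mod_cast e2
    rw [e1', e2']
    push_cast
    ring

variable (M) in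
/-- `n ↦ length (M / I^n M)`. -/
noncomputable def hs (I : Ideal A) (n : ℕ) : ℕ :=
  (Module.length A (M ⧸ (I ^ n • ⊤ : Submodule A M))).toNat

omit [IsNoetherianRing A] [Module.Finite A M] in
theorem length_quotient_succ (I : Ideal A) (n : ℕ) :
    Module.length A (M ⧸ (I ^ (n + 1) • ⊤ : Submodule A M)) =
      qlen (I ^ n • ⊤ : Submodule A M) (I ^ (n + 1) • ⊤) +
        Module.length A (M ⧸ (I ^ n • ⊤ : Submodule A M)) := by
  have hle : (I ^ (n + 1) • ⊤ : Submodule A M) ≤ I ^ n • ⊤ :=
    Submodule.smul_mono_left (Ideal.pow_le_pow_right n.le_succ)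
  have htop : ∀ C : Submodule A M, qlen ⊤ C = Module.length A (M ⧸ C) := fun C =>
    (Submodule.Quotient.equiv (C.comap (⊤ : Submodule A M).subtype) C Submodule.topEquiv (by
      ext z; simp [Submodule.mem_map])).length_eq
  rw [← htop, ← htop]
  exact qlen_chain hle le_top

theorem length_quotient_ne_top (I : Ideal A) [IsArtinianRing (A ⧸ I)] (n : ℕ) :
    Module.length A (M ⧸ (I ^ n • ⊤ : Submodule A M)) ≠ ⊤ := by
  induction n with
  | zero =>
    rw [pow_zero, Ideal.one_eq_top, Submodule.top_smul, Module.length_eq_zero]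
    exact WithTop.zero_ne_top
  | succ n ih =>
    rw [length_quotient_succ]
    exact WithTop.add_ne_top.2 ⟨qlen_ne_top I (by rw [← mul_smul, ← pow_succ']), ih⟩

/-- The Hilbert–Samuel polynomial. -/
theorem exists_polynomial_hs (I : Ideal A) [IsArtinianRing (A ⧸ I)] :
    ∃ P : Polynomial ℚ, ∃ N : ℕ, ∀ n, N ≤ n → (hs M I n : ℚ) = P.eval (n : ℚ) := by
  classical
  obtain ⟨G, hG⟩ := (IsNoetherian.noetherian I : I.FG)
  let B : I.Filtration M := I.stableFiltration ⊤
  let C : I.Filtration M :=
    { N := fun n => I ^ (n + 1) • ⊤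
      mono := fun n => Submodule.smul_mono_left (Ideal.pow_le_pow_right (by omega))
      smul_le := fun n => by rw [← mul_smul, ← pow_succ'] }
  have hEv := evPoly_hfun I G hG.symm G B C subset_rfl (I.stableFiltration_stable ⊤)
    (fun n => Submodule.smul_mono_left (Ideal.pow_le_pow_right n.le_succ))
    (fun n => by show I • I ^ n • (⊤ : Submodule A M) ≤ _; rw [← mul_smul, ← pow_succ'])
    (fun x hx hxS => absurd hx hxS)
  obtain ⟨N, hN⟩ := hEv
  refine EvPoly.exists_polynomial (d := G.card + 1) ⟨N, fun n hn => ?_⟩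
  have hdiff : fwdDiff (1 : ℕ) (fun m => (hs M I m : ℚ)) = hfun B C := by
    funext m
    have h := length_quotient_succ (M := M) I m
    have h' : hs M I (m + 1) = (qlen (B.N m) (C.N m)).toNat + hs M I m := by
      unfold hs
      rw [h, ENat.toNat_add (qlen_ne_top I (by rw [← mul_smul, ← pow_succ'])) (length_quotient_ne_top I m)]
      rfl
    simp [fwdDiff, hfun, h']
  rw [Function.iterate_succ_apply, hdiff]
  exact hN n hn

end Lengths

end Groth.Agent.HilbSam
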